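import Groth.Agent.FittX.Ideal
import Groth.Agent.FittX.Crit
import Mathlib.RingTheory.Kaehler.TensorProduct
import Mathlib.RingTheory.Unramified.Locus
import Mathlib.RingTheory.LocalRing.Module

/-! # The first Fitting ideal of the differentials cuts out reduced rational points on a nodal curve -/

universe u

open KaehlerDifferential TensorProduct

namespace Groth.Agent.H26.NodeFitt

/-- `M` is generated to first order by two elements with product of order three. -/
def PlaneSing {R : Type u} [CommRing R] (M : Ideal R) : Prop :=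
  ∃ x y : R, Ideal.span {x, y} ⊔ M ^ 2 = M ∧ x * y ∈ M ^ 3

/-- An ideal with principal image in the localisation is principal to first order. -/
theorem planeSing_of_map_eq_span {R : Type u} [CommRing R] (M : Ideal R) [M.IsMaximal] (L : Type u) [CommRing L]
    [Algebra R L] [IsLocalization.AtPrime L M] (t : L) (ht : M.map (algebraMap R L) = Ideal.span {t}) :
    PlaneSing M := by
  obtain ⟨t₀, s, rfl⟩ := IsLocalization.exists_mk'_eq M.primeCompl t
  have htt : IsLocalization.mk' L t₀ s * algebraMap R L (s : R) = algebraMap R L t₀ := IsLocalization.mk'_spec L t₀ s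
  have hu : IsUnit (algebraMap R L (s : R)) := IsLocalization.map_units L s
  rw [← Ideal.span_singleton_mul_right_unit hu, htt] at ht
  have ht₀ : t₀ ∈ M := by
    by_contra h
    have h1 : Ideal.span {algebraMap R L t₀} = ⊤ :=
      Ideal.span_singleton_eq_top.2 (IsLocalization.map_units L (⟨t₀, h⟩ : M.primeCompl))
    rw [h1] at ht
    haveI := IsLocalization.AtPrime.isLocalRing L M
    rw [IsLocalization.AtPrime.map_eq_maximalIdeal M L] at ht
    exact (IsLocalRing.maximalIdeal.isMaximal L).ne_top ht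
  refine ⟨t₀, 0, le_antisymm (sup_le (Ideal.span_le.2 ?_) (Ideal.pow_le_self two_ne_zero)) fun m hm => ?_, by simp⟩
  · rintro a (rfl | rfl)
    exacts [ht₀, M.zero_mem]
  · have h1 : algebraMap R L m ∈ (Ideal.span {t₀}).map (algebraMap R L) := by
      rw [Ideal.map_span, Set.image_singleton, ← ht]
      exact Ideal.mem_map_of_mem _ hm
    obtain ⟨s', hs', hmem⟩ := (IsLocalization.algebraMap_mem_map_algebraMap_iff M.primeCompl L _ m).1 h1
    obtain ⟨v, μ, hμ, hv⟩ := (Ideal.IsMaximal.exists_inv ‹_› hs')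
    rw [show m = v * (s' * m) + μ * m by rw [← mul_assoc, ← add_mul, hv, one_mul]]
    refine add_mem (Ideal.mem_sup_left (Ideal.mul_mem_left _ _ ?_)) (Ideal.mem_sup_right ?_)
    · exact Ideal.span_mono (Set.singleton_subset_iff.2 (by simp)) hmem
    · rw [sq]; exact Ideal.mul_mem_mul hμ hm

variable (K : Type u) [Field K] {R : Type u} [CommRing R] [Algebra K R]

theorem D_mem_smul (M : Ideal R) (n : ℕ) {a : R} (ha : a ∈ M ^ (n + 1)) :
    D K R a ∈ M ^ n • (⊤ : Submodule R Ω[R⁄K]) := by
  induction n generalizing a with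
  | zero => simp
  | succ n ih =>
    rw [pow_succ] at ha
    refine Submodule.mul_induction_on ha (fun q hq r hr => ?_) fun q r hq hr => by rw [map_add]; exact add_mem hq hr
    rw [Derivation.leibniz]
    refine add_mem (Submodule.smul_mem_smul hq Submodule.mem_top) ?_
    rw [pow_succ', Submodule.mul_smul]
    exact Submodule.smul_mem_smul hr (ih hq)

variable [Algebra.FiniteType K R]

/-- At a plane singularity with rational residue field the maximal ideal lies in the first Fitting ideal. -/
theorem exists_mul_mem_fitt (M : Ideal R) [M.IsMaximal] (hres : ∀ r : R, ∃ c : K, r - algebraMap K R c ∈ M)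
    (hM : PlaneSing M) {m : R} (hm : m ∈ M) : ∃ s ∉ M, s * m ∈ Fitt.ideal R Ω[R⁄K] 1 := by
  classical
  obtain ⟨x, y, hspan, hxy⟩ := hM
  haveI : IsNoetherianRing R := Algebra.FiniteType.isNoetherianRing K R
  let R' := Localization.AtPrime M
  let N := LocalizedModule M.primeCompl Ω[R⁄K]
  let ℓ : Ω[R⁄K] →ₗ[R] N := LocalizedModule.mkLinearMap M.primeCompl _
  let g : Fin 2 → N := ![ℓ (D K R x), ℓ (D K R y)]
  have hbc : IsBaseChange R' ℓ := FittX.isBaseChange_mkLinearMap _ _
  let 𝔪 := IsLocalRing.maximalIdeal R'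
  have hmap : ∀ r ∈ M, algebraMap R R' r ∈ 𝔪 := fun r hr => (IsLocalization.AtPrime.to_map_mem_maximal_iff R' M r).2 hr
  have hℓM : ∀ n : ℕ, ∀ z ∈ M ^ n • (⊤ : Submodule R Ω[R⁄K]), ℓ z ∈ 𝔪 ^ n • (⊤ : Submodule R' N) := fun n z hz => by
    refine Submodule.smul_induction_on hz (fun r hr w _ => ?_) fun a b ha hb => by rw [map_add]; exact add_mem ha hb
    rw [map_smul, ← algebraMap_smul R' r (ℓ w)]
    refine Submodule.smul_mem_smul ?_ Submodule.mem_top
    have := Ideal.mem_map_of_mem (algebraMap R R') hr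
    rw [Ideal.map_pow, Localization.AtPrime.map_eq_maximalIdeal] at this
    exact this
  have hxM : x ∈ M := hspan ▸ Ideal.mem_sup_left (Ideal.subset_span (by simp))
  have hyM : y ∈ M := hspan ▸ Ideal.mem_sup_left (Ideal.subset_span (by simp))
  have hgen : Submodule.span R' (Set.range g) = ⊤ := by
    have hD : ∀ r, ℓ (D K R r) ∈ Submodule.span R' (Set.range g) ⊔ 𝔪 • (⊤ : Submodule R' N) := by
      intro r
      obtain ⟨c, hc⟩ := hres r
      rw [← hspan] at hc
      obtain ⟨l, hl, z, hz, hlz⟩ := Submodule.mem_sup.1 hc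
      obtain ⟨a, b, rfl⟩ := Ideal.mem_span_pair.1 hl
      rw [show r = (a * x + b * y + z) + algebraMap K R c by rw [hlz]; ring, map_add, Derivation.map_algebraMap,
        add_zero]
      simp only [map_add, Derivation.leibniz, map_smul]
      refine add_mem (add_mem (add_mem ?_ ?_) (add_mem ?_ ?_)) ?_
      · rw [← algebraMap_smul R' a]
        exact Submodule.mem_sup_left (Submodule.smul_mem _ _ (Submodule.subset_span ⟨0, rfl⟩))
      · rw [← algebraMap_smul R' x]
        exact Submodule.mem_sup_right (Submodule.smul_mem_smul (hmap x hxM) Submodule.mem_top)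
      · rw [← algebraMap_smul R' b]
        exact Submodule.mem_sup_left (Submodule.smul_mem _ _ (Submodule.subset_span ⟨1, rfl⟩))
      · rw [← algebraMap_smul R' y]
        exact Submodule.mem_sup_right (Submodule.smul_mem_smul (hmap y hyM) Submodule.mem_top)
      · exact Submodule.mem_sup_right (by simpa using hℓM 1 _ (D_mem_smul K M 1 hz))
    have hall : (⊤ : Submodule R' N) ≤ Submodule.span R' (Set.range g) ⊔ 𝔪 • ⊤ := by
      rintro z -
      induction z using hbc.inductionOn with
      | zero => exact zero_mem _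
      | tmul w =>
        have hw : w ∈ Submodule.span R (Set.range (D K R)) := by rw [KaehlerDifferential.span_range_derivation]; trivial
        induction hw using Submodule.span_induction with
        | mem w hw => obtain ⟨r, rfl⟩ := hw; exact hD r
        | zero => rw [map_zero]; exact zero_mem _
        | add a b _ _ ha hb => rw [map_add]; exact add_mem ha hb
        | smul a w _ hw => rw [map_smul, ← algebraMap_smul R' a]; exact Submodule.smul_mem _ _ hw
      | smul a z hz => exact Submodule.smul_mem _ a hz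
      | add a b ha hb => exact add_mem ha hb
    haveI : Module.Finite R' N := Module.Finite.equiv hbc.equiv
    exact top_le_iff.1 (Submodule.le_of_le_smul_of_le_jacobson_bot Module.Finite.fg_top
      (by rw [IsLocalRing.jacobson_eq_maximalIdeal ⊥ bot_ne_top]) hall)
  have hrel : ∃ a b : R', a ∈ 𝔪 ^ 2 ∧ b ∈ 𝔪 ^ 2 ∧
      (algebraMap R R' y - a) • g 0 + (algebraMap R R' x - b) • g 1 = 0 := by
    have h := hℓM 2 _ (D_mem_smul K M 2 hxy)
    rw [← hgen] at h
    obtain ⟨a, ha, hsum⟩ := (Submodule.mem_ideal_smul_span_iff_exists_sum _ _ _).1 h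
    rw [Finsupp.sum_fintype a (fun i c => c • g i) (fun i => zero_smul _ _), Fin.sum_univ_two, Derivation.leibniz, map_add, map_smul,
      map_smul, ← algebraMap_smul R' x, ← algebraMap_smul R' y] at hsum
    refine ⟨a 0, a 1, ha 0, ha 1, ?_⟩
    have hs : a 0 • g 0 + a 1 • g 1 = algebraMap R R' x • g 1 + algebraMap R R' y • g 0 := hsum
    rw [sub_smul, sub_smul, sub_add_sub_comm, hs]
    abel
  obtain ⟨a, b, ha, hb, hab⟩ := hrel
  have hF : Fitt.ideal R' N 1 = (Fitt.ideal R Ω[R⁄K] 1).map (algebraMap R R') := FittX.ideal_baseChange hbc 1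
  have hmem₁ : algebraMap R R' y - a ∈ Fitt.ideal R' N 1 := by
    refine Ideal.subset_span ⟨2, g, !![algebraMap R R' y - a, algebraMap R R' x - b; 0, 1], hgen, fun i hi => ?_, ?_⟩
    · obtain rfl : i = 0 := Fin.ext (by omega)
      rw [Fin.sum_univ_two]; simpa using hab
    · simp [Matrix.det_fin_two]
  have hmem₂ : algebraMap R R' x - b ∈ Fitt.ideal R' N 1 := by
    refine Ideal.subset_span ⟨2, ![g 1, g 0], !![algebraMap R R' x - b, algebraMap R R' y - a; 0, 1], ?_, fun i hi => ?_, ?_⟩
    · rw [← hgen]; congr 1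
      ext z; simp [g, or_comm]
    · obtain rfl : i = 0 := Fin.ext (by omega)
      rw [Fin.sum_univ_two]; simpa [add_comm] using hab
    · simp [Matrix.det_fin_two]
  have hle : 𝔪 ≤ Fitt.ideal R' N 1 := by
    refine Submodule.le_of_le_smul_of_le_jacobson_bot (IsNoetherian.noetherian (R := R') 𝔪)
      (le_of_eq (IsLocalRing.jacobson_eq_maximalIdeal ⊥ bot_ne_top).symm) ?_
    rw [smul_eq_mul, ← sq]
    have h1 : 𝔪 = (Ideal.span {x, y}).map (algebraMap R R') ⊔ 𝔪 ^ 2 := by
      have h2 := congrArg (Ideal.map (algebraMap R R')) hspan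
      rw [Ideal.map_sup, Ideal.map_pow, Localization.AtPrime.map_eq_maximalIdeal] at h2
      exact h2.symm
    conv_lhs => rw [h1, Ideal.map_span, Set.image_pair]
    refine sup_le (Ideal.span_le.2 ?_) le_sup_right
    rintro z (rfl | rfl)
    · rw [← sub_add_cancel (algebraMap R R' x) b]
      exact add_mem (Ideal.mem_sup_left hmem₂) (Ideal.mem_sup_right hb)
    · rw [← sub_add_cancel (algebraMap R R' y) a]
      exact add_mem (Ideal.mem_sup_left hmem₁) (Ideal.mem_sup_right ha)
  obtain ⟨s, hs, h⟩ := (IsLocalization.algebraMap_mem_map_algebraMap_iff M.primeCompl R' _ m).1 (hF ▸ hle (hmap m hm))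
  exact ⟨s, hs, h⟩

/-- Over a field with rational residue fields, the first Fitting ideal of a curve with at most plane singularities
cuts out an unramified scheme. -/
theorem formallyUnramified_quotient (hres : ∀ M : Ideal R, M.IsMaximal → ∀ r : R, ∃ c : K, r - algebraMap K R c ∈ M)
    (hP : ∀ M : Ideal R, M.IsMaximal → PlaneSing M) :
    Algebra.FormallyUnramified K (R ⧸ Fitt.ideal R Ω[R⁄K] 1) := by
  set I := Fitt.ideal R Ω[R⁄K] 1
  refine ⟨⟨fun w w' => ?_⟩⟩
  suffices h : ∀ z : Ω[(R ⧸ I)⁄K], z = 0 by rw [h w, h w']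
  intro z
  by_contra hne
  obtain ⟨n, hn, hle⟩ := Ideal.exists_le_maximal (Submodule.annihilator (Submodule.span (R ⧸ I) {z})) (fun h => hne (by
    have h1 : (1 : R ⧸ I) ∈ Submodule.annihilator (Submodule.span (R ⧸ I) {z}) := by rw [h]; trivial
    simpa [Submodule.mem_annihilator_span_singleton] using h1))
  suffices h : ∃ s ∉ n, s • z = 0 by
    obtain ⟨s, hs, hsz⟩ := h
    exact hs (hle ((Submodule.mem_annihilator_span_singleton _ _).2 hsz))
  let M := n.comap (Ideal.Quotient.mk I)
  haveI : M.IsMaximal := Ideal.comap_isMaximal_of_surjective _ Ideal.Quotient.mk_surjective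
  have hz : z ∈ Submodule.span (R ⧸ I) (Set.range (D K (R ⧸ I))) := by
    rw [KaehlerDifferential.span_range_derivation]; trivial
  clear hne hle
  induction hz using Submodule.span_induction with
  | mem w hw =>
    obtain ⟨q, rfl⟩ := hw
    obtain ⟨r, rfl⟩ := Ideal.Quotient.mk_surjective q
    obtain ⟨c, hc⟩ := hres M inferInstance r
    obtain ⟨s, hs, hsI⟩ := exists_mul_mem_fitt K M (hres M inferInstance) (hP M inferInstance) hc
    set μ := Ideal.Quotient.mk I (r - algebraMap K R c) with hμdef
    have hμ : Ideal.Quotient.mk I s * μ = 0 := by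
      rw [hμdef, ← map_mul]; exact Ideal.Quotient.eq_zero_iff_mem.2 hsI
    have hd : D K (R ⧸ I) (Ideal.Quotient.mk I r) = D K (R ⧸ I) μ := by
      rw [hμdef, map_sub, map_sub, show Ideal.Quotient.mk I (algebraMap K R c) = algebraMap K (R ⧸ I) c from rfl,
        Derivation.map_algebraMap, sub_zero]
    refine ⟨Ideal.Quotient.mk I s * Ideal.Quotient.mk I s, fun h => hs ((hn.isPrime.mem_or_mem h).elim id id), ?_⟩
    have h0 := congrArg (fun t => Ideal.Quotient.mk I s • D K (R ⧸ I) t) hμ
    rw [map_zero, smul_zero, Derivation.leibniz, smul_add, smul_smul, smul_smul, hμ, zero_smul, add_zero] at h0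
    rw [hd, h0]
  | zero => exact ⟨1, fun h => hn.ne_top ((Ideal.eq_top_iff_one _).2 h), smul_zero _⟩
  | add a b _ _ ha hb =>
    obtain ⟨s, hs, hsa⟩ := ha
    obtain ⟨t, ht, htb⟩ := hb
    exact ⟨s * t, fun h => (hn.isPrime.mem_or_mem h).elim hs ht, by
      rw [smul_add, mul_comm, mul_smul, hsa, smul_zero, zero_add, mul_comm, mul_smul, htb, smul_zero]⟩
  | smul a b _ hb =>
    obtain ⟨s, hs, hsb⟩ := hb
    exact ⟨s, hs, by rw [smul_comm, hsb, smul_zero]⟩

end Groth.Agent.H26.NodeFitt
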