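import Groth.Agent.H26.NodeFitt.Alg
import Mathlib.FieldTheory.IsAlgClosed.AlgebraicClosure
import Mathlib.RingTheory.Flat.FaithfullyFlat.Algebra

/-! # Unramifiedness of the Fitting subscheme from the geometric fibres -/

universe u

open KaehlerDifferential
open scoped TensorProduct

namespace Groth.Agent.H26.NodeFitt

variable {R A : Type u} [CommRing R] [CommRing A] [Algebra R A] [Algebra.FiniteType R A]

/-- Rationality of closed points of an algebra of finite type over an algebraically closed field. -/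
theorem exists_sub_mem (K : Type u) [Field K] [IsAlgClosed K] {B : Type u} [CommRing B] [Algebra K B]
    [Algebra.FiniteType K B] (M : Ideal B) (hM : M.IsMaximal) (b : B) : ∃ c : K, b - algebraMap K B c ∈ M := by
  letI : Field (B ⧸ M) := Ideal.Quotient.field M
  haveI : Module.Finite K (B ⧸ M) := finite_of_finite_type_of_isJacobsonRing K (B ⧸ M)
  obtain ⟨c, hc⟩ := (IsAlgClosed.algebraMap_bijective_of_isIntegral (k := K) (K := B ⧸ M)).2 (Ideal.Quotient.mk M b)
  refine ⟨c, ?_⟩
  rw [IsScalarTower.algebraMap_apply K B (B ⧸ M), Ideal.Quotient.algebraMap_eq, eq_comm, Ideal.Quotient.eq] at hc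
  exact hc

attribute [local instance] Algebra.TensorProduct.rightAlgebra

/-- The first Fitting ideal of the differentials of a geometric fibre is the extended ideal. -/
theorem fitt_baseChange (K : Type u) [CommRing K] [Algebra R K] :
    Fitt.ideal (K ⊗[R] A) Ω[(K ⊗[R] A)⁄K] 1 =
      (Fitt.ideal A Ω[A⁄R] 1).map (algebraMap A (K ⊗[R] A)) := by
  haveI : Algebra.IsPushout R K A (K ⊗[R] A) := inferInstance
  have hbc : IsBaseChange (K ⊗[R] A) (KaehlerDifferential.map R K A (K ⊗[R] A)) :=
    IsBaseChange.of_equiv (KaehlerDifferential.tensorKaehlerEquiv R K A (K ⊗[R] A)) fun x => by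
      simp [KaehlerDifferential.tensorKaehlerEquiv]
      rw [Algebra.TensorProduct.one_def (A := A) (B := K)]
      simp
  exact FittX.ideal_baseChange hbc 1

/-- If all geometric fibres have at most plane singularities the Fitting subscheme is unramified. -/
theorem formallyUnramified_of_fibres
    (h : ∀ (K : Type u) [Field K] [IsAlgClosed K] [Algebra R K],
      ∀ M : Ideal (K ⊗[R] A), M.IsMaximal → PlaneSing M) :
    Algebra.FormallyUnramified R (A ⧸ Fitt.ideal A Ω[A⁄R] 1) := by
  set I := Fitt.ideal A Ω[A⁄R] 1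
  let C := A ⧸ I
  rw [Algebra.formallyUnramified_iff]
  have : IsEmpty (Module.support C Ω[C⁄R]) := by
    refine ⟨fun ⟨q, hq⟩ => ?_⟩
    rw [Module.mem_support_iff_nontrivial_residueField_tensorProduct] at hq
    let K := AlgebraicClosure q.asIdeal.ResidueField
    haveI : IsAlgClosed K := inferInstance
    haveI : IsScalarTower R q.asIdeal.ResidueField K := inferInstance
    haveI : Algebra.FormallyUnramified K (K ⊗[R] C) := by
      haveI := formallyUnramified_quotient K (exists_sub_mem K) (h K)
      let f : (K ⊗[R] A) →ₐ[K] K ⊗[R] C := Algebra.TensorProduct.map (AlgHom.id K K) (Ideal.Quotient.mkₐ R I)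
      have hf : Function.Surjective f := fun z => by
        induction z using TensorProduct.induction_on with
        | zero => exact ⟨0, map_zero f⟩
        | tmul k c => obtain ⟨a, rfl⟩ := Ideal.Quotient.mk_surjective c; exact ⟨k ⊗ₜ a, rfl⟩
        | add a b ha hb =>
          obtain ⟨x, rfl⟩ := ha; obtain ⟨y, rfl⟩ := hb
          exact ⟨x + y, map_add f _ _⟩
      refine Algebra.FormallyUnramified.of_surjective
        (Ideal.Quotient.liftₐ (Fitt.ideal (K ⊗[R] A) Ω[(K ⊗[R] A)⁄K] 1) f fun z hz => ?_) fun z => ?_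
      · refine (show Fitt.ideal (K ⊗[R] A) Ω[(K ⊗[R] A)⁄K] 1 ≤ RingHom.ker f from ?_) hz
        rw [fitt_baseChange, Ideal.map_le_iff_le_comap]
        intro a ha
        show f ((1 : K) ⊗ₜ a) = 0
        rw [show f ((1 : K) ⊗ₜ a) = (1 : K) ⊗ₜ Ideal.Quotient.mk I a from rfl, Ideal.Quotient.eq_zero_iff_mem.2 ha,
          TensorProduct.tmul_zero]
      · obtain ⟨x, rfl⟩ := hf z
        exact ⟨Ideal.Quotient.mk _ x, rfl⟩
    haveI : Subsingleton (K ⊗[R] Ω[C⁄R]) :=
      (KaehlerDifferential.tensorKaehlerEquivBase R K C (K ⊗[R] C)).toEquiv.subsingleton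
    haveI : Subsingleton (K ⊗[C] Ω[C⁄R]) :=
      (TensorProduct.mapOfCompatibleSMul_surjective C R R K Ω[C⁄R]).subsingleton
    haveI : Subsingleton (K ⊗[q.asIdeal.ResidueField] (q.asIdeal.ResidueField ⊗[C] Ω[C⁄R])) :=
      (TensorProduct.AlgebraTensorModule.cancelBaseChange C q.asIdeal.ResidueField K K Ω[C⁄R]).toEquiv.subsingleton
    haveI : Subsingleton (q.asIdeal.ResidueField ⊗[C] Ω[C⁄R]) :=
      (Module.FaithfullyFlat.tensorProduct_mk_injective (A := q.asIdeal.ResidueField) (B := K) _).subsingleton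
    exact not_subsingleton (q.asIdeal.ResidueField ⊗[C] Ω[C⁄R]) this
  exact Module.support_eq_empty_iff.1 (Set.isEmpty_coe_sort.1 this)

end Groth.Agent.H26.NodeFitt
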