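import Groth.Agent.H26.NodeFitt.Base
import Groth.Agent.NodeFam.Structure
import Groth.Agent.NodeFam.NodeSep
import Groth.Agent.SmoothReg.Scheme
import Groth.Agent.VarDim.Local

/-! # Nodal families have plane singularities on geometric fibres -/

set_option backward.isDefEq.respectTransparency false
set_option backward.isDefEq.respectTransparency.types false

universe u

open CategoryTheory CategoryTheory.Limits AlgebraicGeometry
open scoped TensorProduct

namespace Groth.Agent.H26.NodeFitt

open Groth.Agent.NodeFam

theorem isIso_fromSpecResidueField (K : Type u) [Field K] (z : Spec (CommRingCat.of K)) :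
    IsIso ((Spec (CommRingCat.of K)).fromSpecResidueField z) := by
  have hz : (z : PrimeSpectrum K).asIdeal = ⊥ :=
    (Ideal.eq_bot_or_top _).resolve_right (z : PrimeSpectrum K).2.ne_top
  have hb : Function.Bijective (algebraMap K (Localization.AtPrime (z : PrimeSpectrum K).asIdeal)) :=
    (IsLocalization.atUnits K (z : PrimeSpectrum K).asIdeal.primeCompl (fun x hx => isUnit_iff_ne_zero.2 fun h =>
      hx (by rw [h]; exact zero_mem _))).bijective
  have hs : Function.Surjective (StructureSheaf.toStalk K z) := by
    have h2 := (StructureSheaf.stalkIso K z).toRingEquiv.surjective.comp hb.2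
    convert h2 using 2
    ext a
    exact ((StructureSheaf.stalkIso K z).commutes a).symm
  have e : (Spec (CommRingCat.of K)).fromSpecResidueField z =
      Spec.map (CommRingCat.ofHom (StructureSheaf.toStalk K z).hom ≫ (Spec (CommRingCat.of K)).residue z) := by
    rw [Spec.map_comp]
    show Spec.map _ ≫ (Spec (CommRingCat.of K)).fromSpecStalk z = _
    rw [Scheme.Spec_fromSpecStalk]
    rfl
  rw [e]
  have : IsIso (CommRingCat.ofHom (StructureSheaf.toStalk K z).hom ≫ (Spec (CommRingCat.of K)).residue z) := by
    rw [ConcreteCategory.isIso_iff_bijective]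
    exact ⟨RingHom.injective _, ((Spec (CommRingCat.of K)).residue_surjective z).comp hs⟩
  infer_instance

/-- A nodal family over a field is a nodal curve. -/
theorem nodalCurve_of_family {K : Type u} [Field K] {Y : Scheme.{u}} (q : Y ⟶ Spec (CommRingCat.of K))
    (h : Curv2.IsNodalFamily q) : NodalCurve q := by
  obtain ⟨s⟩ : Nonempty ↥(Spec (CommRingCat.of K)) := inferInstance
  haveI := isIso_fromSpecResidueField K s
  let φ : K →+* (Spec (CommRingCat.of K)).residueField s :=
    (Spec.preimage ((Spec (CommRingCat.of K)).fromSpecResidueField s)).hom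
  letI : Algebra K ((Spec (CommRingCat.of K)).residueField s) := φ.toAlgebra
  have hext : extMap K ((Spec (CommRingCat.of K)).residueField s) = (Spec (CommRingCat.of K)).fromSpecResidueField s :=
    Spec.map_preimage _
  have hb : Function.Bijective φ := by
    have : IsIso (Spec.map (Spec.preimage ((Spec (CommRingCat.of K)).fromSpecResidueField s))) := by
      rw [Spec.map_preimage]; infer_instance
    haveI : IsIso (Scheme.Spec.map (Spec.preimage ((Spec (CommRingCat.of K)).fromSpecResidueField s)).op) := this
    haveI := isIso_of_fully_faithful Scheme.Spec (Spec.preimage ((Spec (CommRingCat.of K)).fromSpecResidueField s)).op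
    haveI : IsIso (Spec.preimage ((Spec (CommRingCat.of K)).fromSpecResidueField s)) := isIso_of_op _
    exact ConcreteCategory.bijective_of_isIso (Spec.preimage ((Spec (CommRingCat.of K)).fromSpecResidueField s))
  haveI : Module.Finite K ((Spec (CommRingCat.of K)).residueField s) :=
    Module.Finite.of_surjective (Algebra.linearMap K _) hb.2
  haveI : Algebra.IsSeparable K ((Spec (CommRingCat.of K)).residueField s) :=
    AlgEquiv.Algebra.isSeparable (AlgEquiv.ofBijective (Algebra.ofId K _) hb)
  haveI := h.2.1
  have h1 := ((isNodalFamily_iff q).1 h).2.2 s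
  haveI : LocallyOfFiniteType (q.fiberToSpecResidueField s) := inferInstance
  have h2 := h1.comp_extMap (k := K)
  haveI : IsIso (q.fiberι s) :=
    inferInstanceAs (IsIso (pullback.fst q ((Spec (CommRingCat.of K)).fromSpecResidueField s)))
  have h3 : q.fiberToSpecResidueField s ≫ extMap K ((Spec (CommRingCat.of K)).residueField s) = q.fiberι s ≫ q := by
    rw [hext]; exact (q.fiber_fac s).symm
  rw [h3] at h2
  have h4 := h2.comp_etale (inv (q.fiberι s))
  rwa [IsIso.inv_hom_id_assoc] at h4

/-- Over an algebraically closed field, closed points of a nodal curve are plane singularities. -/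
theorem planeSing_of_nodal {K : Type u} [Field K] [IsAlgClosed K] {B : Type u} [CommRing B] [Algebra K B]
    [Algebra.FiniteType K B] (h : NodalCurve (Spec.map (CommRingCat.ofHom (algebraMap K B)))) (M : Ideal B)
    [hM : M.IsMaximal] : PlaneSing M := by
  let g := Spec.map (CommRingCat.ofHom (algebraMap K B))
  haveI : LocallyOfFiniteType g := (HasRingHomProperty.Spec_iff (P := @LocallyOfFiniteType)).2
    (RingHom.finiteType_algebraMap.2 inferInstance)
  haveI : LocallyOfFinitePresentation g := lfp_of_lft g
  let w : ↥(Spec (CommRingCat.of B)) := ⟨M, hM.isPrime⟩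
  have hw : IsClosed ({w} : Set ↥(Spec (CommRingCat.of B))) := (PrimeSpectrum.isClosed_singleton_iff_isMaximal w).2 hM
  rcases h.2 w hw with hs | hn
  · haveI := SmoothReg.isRegularLocalRing_stalk_of_mem_smoothLocus g ((exists_smooth_nhd_iff g w).1 hs)
    obtain ⟨b, hb, ⟨η, -, hη⟩, -⟩ := VarDim.exists_deg_add_stalk g w
    have h1 : b ≤ 1 := by
      have h0 : VarDim.deg g η ≤ 1 := h.deg_le_one η
      omega
    letI : Algebra B ((Spec (CommRingCat.of B)).presheaf.stalk w) := (StructureSheaf.toStalk B w).hom.toAlgebra
    haveI : IsLocalization.AtPrime ((Spec (CommRingCat.of B)).presheaf.stalk w) M :=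
      StructureSheaf.IsLocalization.to_stalk B w
    have hf : (IsLocalRing.maximalIdeal ((Spec (CommRingCat.of B)).presheaf.stalk w)).spanFinrank ≤ 1 := by
      have := IsRegularLocalRing.spanFinrank_maximalIdeal (R := (Spec (CommRingCat.of B)).presheaf.stalk w)
      rw [hb] at this
      have h2 : (IsLocalRing.maximalIdeal ((Spec (CommRingCat.of B)).presheaf.stalk w)).spanFinrank = b := by
        exact_mod_cast this
      omega
    obtain ⟨t, ht⟩ : ∃ t, IsLocalRing.maximalIdeal ((Spec (CommRingCat.of B)).presheaf.stalk w) = Ideal.span {t} := by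
      obtain ⟨S, hcard, hspan⟩ := (IsNoetherian.noetherian
        (IsLocalRing.maximalIdeal ((Spec (CommRingCat.of B)).presheaf.stalk w))).exists_span_finset_card_eq_spanFinrank
      rcases Finset.card_le_one_iff_subset_singleton.1 (hcard.le.trans hf) with ⟨t, ht⟩
      rcases Finset.subset_singleton_iff.1 ht with rfl | rfl
      · exact ⟨0, by rw [← hspan]; simp⟩
      · exact ⟨t, by rw [← hspan]; simp⟩
    exact planeSing_of_map_eq_span M _ t ((IsLocalization.AtPrime.map_eq_maximalIdeal M _).trans ht)
  · let L := AlgebraicClosure K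
    let N := extIdeal K L M
    have hb : Function.Bijective (algebraMap K L) := IsAlgClosed.algebraMap_bijective_of_isIntegral
    let ι : B →ₐ[K] L ⊗[K] B := Algebra.TensorProduct.includeRight
    have hι : Function.Surjective ι := fun z => by
      induction z using TensorProduct.induction_on with
      | zero => exact ⟨0, map_zero ι⟩
      | tmul l b =>
        obtain ⟨c, rfl⟩ := hb.2 l
        refine ⟨c • b, ?_⟩
        show (1 : L) ⊗ₜ[K] (c • b) = _
        rw [TensorProduct.tmul_smul, TensorProduct.smul_tmul', Algebra.smul_def, mul_one]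
      | add a b ha hb =>
        obtain ⟨x, rfl⟩ := ha; obtain ⟨y, rfl⟩ := hb; exact ⟨x + y, map_add ι _ _⟩
    have hιinj : Function.Injective ι :=
      Algebra.TensorProduct.includeRight_injective hb.1
    haveI hN : N.IsMaximal := Ideal.IsMaximal.map_bijective ι ⟨hιinj, hι⟩ hM
    have hcom : N.comap ι = M := Ideal.comap_map_of_bijective ι ⟨hιinj, hι⟩
    have hpo : IsPullback (Spec.map (CommRingCat.ofHom ι.toRingHom))
        (Spec.map (CommRingCat.ofHom (algebraMap L (L ⊗[K] B)))) g (extMap K L) :=
      (isPullback_SpecMap_of_isPushout _ _ _ _ (CommRingCat.isPushout_tensorProduct K L B)).flip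
    let z : ↥(Spec (CommRingCat.of (L ⊗[K] B))) := ⟨N, hN.isPrime⟩
    haveI : z.asIdeal.IsMaximal := hN
    have hfst : pullback.fst g (extMap K L) (hpo.isoPullback.hom z) = w := by
      rw [← Scheme.Hom.comp_apply, hpo.isoPullback_hom_fst]
      exact PrimeSpectrum.ext hcom
    have hodp := hn.odpAt _ hfst
    haveI : LocallyOfFiniteType (Spec.map (CommRingCat.ofHom (algebraMap L (L ⊗[K] B)))) := by
      rw [← hpo.isoPullback_hom_snd]; infer_instance
    rw [odpAt_iff_of_stalk_iso hpo.isoPullback.hom _
      (Spec.map (CommRingCat.ofHom (algebraMap L (L ⊗[K] B))))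
      (RingEquiv.refl L) (by
        rw [hpo.isoPullback_hom_snd, show (RingEquiv.refl L).toRingHom = RingHom.id _ from rfl,
          CommRingCat.ofHom_id, Spec.map_id, Category.comp_id]) z (ConcreteCategory.bijective_of_isIso _),
      odpAt_spec_iff] at hodp
    exact ((nodeCrit_ext_iff (k := K) (L := L) (M := M)).2 hodp).2

/-- A chart of a nodal family is a nodal family of affine schemes. -/
theorem isNodalFamily_chart {X S : Scheme.{u}} (f : X ⟶ S) (hf : Curv2.IsNodalFamily f) {V : S.Opens}
    (hV : IsAffineOpen V) {U : X.Opens} (hU : IsAffineOpen U) (e : U ≤ f ⁻¹ᵁ V) :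
    Curv2.IsNodalFamily (Spec.map (f.appLE V U e)) := by
  have h1 := isNodalFamily_precomp f hf hU.fromSpec
  rw [← hV.SpecMap_appLE_fromSpec f hU e] at h1
  have h2 := isNodalFamily_baseChange _ h1 hV.fromSpec
  let l : Spec Γ(X, U) ⟶ pullback (Spec.map (f.appLE V U e) ≫ hV.fromSpec) hV.fromSpec :=
    pullback.lift (𝟙 _) (Spec.map (f.appLE V U e)) (Category.id_comp _)
  haveI : IsIso l := ⟨pullback.fst _ _, pullback.lift_fst _ _ _, by
    apply pullback.hom_ext
    · simp [l]
    · rw [Category.assoc, pullback.lift_snd, Category.id_comp, ← cancel_mono hV.fromSpec, Category.assoc, pullback.condition]⟩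
  have h3 := isNodalFamily_precomp _ h2 l
  rwa [pullback.lift_snd] at h3

/-- The geometric fibres of a chart of a nodal family have plane singularities. -/
theorem planeSing_fibre {R A : Type u} [CommRing R] [CommRing A] [Algebra R A] [Algebra.FiniteType R A]
    (h : Curv2.IsNodalFamily (Spec.map (CommRingCat.ofHom (algebraMap R A)))) (K : Type u) [Field K] [IsAlgClosed K]
    [Algebra R K] (M : Ideal (K ⊗[R] A)) (hM : M.IsMaximal) : PlaneSing M := by
  have hpo : IsPullback (Spec.map (CommRingCat.ofHom (Algebra.TensorProduct.includeRight : A →ₐ[R] K ⊗[R] A).toRingHom))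
      (Spec.map (CommRingCat.ofHom (algebraMap K (K ⊗[R] A)))) (Spec.map (CommRingCat.ofHom (algebraMap R A)))
      (Spec.map (CommRingCat.ofHom (algebraMap R K))) :=
    (isPullback_SpecMap_of_isPushout _ _ _ _ (CommRingCat.isPushout_tensorProduct R K A)).flip
  have h2 := isNodalFamily_precomp _ (isNodalFamily_baseChange _ h (Spec.map (CommRingCat.ofHom (algebraMap R K))))
    hpo.isoPullback.hom
  rw [hpo.isoPullback_hom_snd] at h2
  exact planeSing_of_nodal (nodalCurve_of_family _ h2) M

end Groth.Agent.H26.NodeFitt
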